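import Mathlib
set_option linter.all false

-- part: H508/AltSec
section
/-!
# Groups with a simple normal section which is covered by each subgroup normalised by it

`AS W J S`: `J` is normal in `W`, `S / J` is perfect and non-trivial, `[W, W] ≤ S`, and each subgroup `Y ≤ W`
with `Y J` normalised by `S` is in `J` or covers `S / J`.
-/

set_option autoImplicit false
set_option linter.unusedSectionVars false

namespace Cfsg.Agent.H508.AltSec

open Subgroup
open scoped commutatorElement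

variable {G : Type*} [Group G]

/-! ### Commutators modulo a subgroup -/

/-- The elements of the normalizer of `Q` commuting with `Z` modulo `Q`. -/
def cen (Q Z : Subgroup G) : Subgroup G where
  carrier := {w | w ∈ normalizer (Q : Set G) ∧ ∀ z ∈ Z, ⁅w, z⁆ ∈ Q}
  one_mem' := ⟨one_mem _, fun z _ => by rw [commutatorElement_one_left]; exact one_mem _⟩
  mul_mem' := by
    rintro x y ⟨hx, hx'⟩ ⟨hy, hy'⟩
    refine ⟨mul_mem hx hy, fun z hz => ?_⟩
    have e : ⁅x * y, z⁆ = (x * ⁅y, z⁆ * x⁻¹) * ⁅x, z⁆ := by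
      simp only [commutatorElement_def]; group
    rw [e]
    exact mul_mem ((mem_normalizer_iff.mp hx _).mp (hy' z hz)) (hx' z hz)
  inv_mem' := by
    rintro x ⟨hx, hx'⟩
    refine ⟨inv_mem hx, fun z hz => ?_⟩
    have e : ⁅x⁻¹, z⁆ = x⁻¹ * ⁅x, z⁆⁻¹ * x⁻¹⁻¹ := by
      simp only [commutatorElement_def]; group
    rw [e]
    exact (mem_normalizer_iff.mp (inv_mem hx) _).mp (inv_mem (hx' z hz))

theorem le_cen {Q Z X : Subgroup G} : X ≤ cen Q Z ↔ X ≤ normalizer (Q : Set G) ∧ ⁅X, Z⁆ ≤ Q := by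
  constructor
  · intro h
    exact ⟨fun x hx => (h hx).1, commutator_le.mpr fun x hx z hz => (h hx).2 z hz⟩
  · intro h x hx
    exact ⟨h.1 hx, fun z hz => h.2 (commutator_mem_commutator hx hz)⟩

theorem comm_sup_left {Q Z X Y : Subgroup G} (hX : X ≤ normalizer (Q : Set G))
    (hY : Y ≤ normalizer (Q : Set G)) (h1 : ⁅X, Z⁆ ≤ Q) (h2 : ⁅Y, Z⁆ ≤ Q) : ⁅X ⊔ Y, Z⁆ ≤ Q :=
  (le_cen.mp (sup_le (le_cen.mpr ⟨hX, h1⟩) (le_cen.mpr ⟨hY, h2⟩))).2

theorem comm_sup_right {Q Z X Y : Subgroup G} (hX : X ≤ normalizer (Q : Set G))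
    (hY : Y ≤ normalizer (Q : Set G)) (h1 : ⁅Z, X⁆ ≤ Q) (h2 : ⁅Z, Y⁆ ≤ Q) : ⁅Z, X ⊔ Y⁆ ≤ Q := by
  rw [commutator_comm] at *
  exact comm_sup_left hX hY h1 h2

theorem norm_sup {X Y Z : Subgroup G} (h1 : Z ≤ normalizer (X : Set G))
    (h2 : Z ≤ normalizer (Y : Set G)) : Z ≤ normalizer ((X ⊔ Y : Subgroup G) : Set G) := by
  rw [le_normalizer_iff_commutator_le_right] at *
  have hX : X ≤ normalizer ((X ⊔ Y : Subgroup G) : Set G) := le_sup_left.trans le_normalizer
  have hY : Y ≤ normalizer ((X ⊔ Y : Subgroup G) : Set G) := le_sup_right.trans le_normalizer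
  exact comm_sup_right hX hY (h1.trans le_sup_left) (h2.trans le_sup_right)

theorem norm_inf {X Y Z : Subgroup G} (h1 : Z ≤ normalizer (X : Set G))
    (h2 : Z ≤ normalizer (Y : Set G)) : Z ≤ normalizer ((X ⊓ Y : Subgroup G) : Set G) := by
  rw [le_normalizer_iff_commutator_le_right] at *
  exact le_inf ((commutator_mono le_rfl inf_le_left).trans h1)
    ((commutator_mono le_rfl inf_le_right).trans h2)

theorem norm_iInf {ι : Sort*} {X : ι → Subgroup G} {Z : Subgroup G}
    (h : ∀ i, Z ≤ normalizer ((X i : Subgroup G) : Set G)) :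
    Z ≤ normalizer ((⨅ i, X i : Subgroup G) : Set G) := by
  rw [le_normalizer_iff_commutator_le_right]
  refine le_iInf fun i => ?_
  exact (commutator_mono le_rfl (iInf_le _ i)).trans
    (le_normalizer_iff_commutator_le_right.mp (h i))

/-- Intersections of covering subgroups cover a perfect section. -/
theorem inf_step {M J S Y Z : Subgroup G} (hJ : M ≤ normalizer (J : Set G))
    (hY : Y ≤ M) (hZ : Z ≤ M) (hnY : M ≤ normalizer (Y : Set G)) (hnZ : M ≤ normalizer (Z : Set G))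
    (hS : S ≤ ⁅S, S⁆ ⊔ J) (h1 : S ≤ Y ⊔ J) (h2 : S ≤ Z ⊔ J) : S ≤ (Y ⊓ Z) ⊔ J := by
  refine hS.trans (sup_le ?_ le_sup_right)
  refine (commutator_mono h1 h2).trans ?_
  have hYQ : M ≤ normalizer (((Y ⊓ Z) ⊔ J : Subgroup G) : Set G) :=
    norm_sup (norm_inf hnY hnZ) hJ
  have hJQ : J ≤ normalizer (((Y ⊓ Z) ⊔ J : Subgroup G) : Set G) :=
    le_sup_right.trans le_normalizer
  have hYJ : ⁅Y, J⁆ ≤ (Y ⊓ Z) ⊔ J :=
    (le_normalizer_iff_commutator_le_right.mp (hY.trans hJ)).trans le_sup_right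
  have hZJ : ⁅Z, J⁆ ≤ (Y ⊓ Z) ⊔ J :=
    (le_normalizer_iff_commutator_le_right.mp (hZ.trans hJ)).trans le_sup_right
  have hJJ : ⁅J, J⁆ ≤ (Y ⊓ Z) ⊔ J := (commutator_le_self J).trans le_sup_right
  have hYZ : ⁅Y, Z⁆ ≤ (Y ⊓ Z) ⊔ J := by
    refine le_trans (le_inf ?_ ?_) le_sup_left
    · exact le_normalizer_iff_commutator_le_left.mp (hZ.trans hnY)
    · exact le_normalizer_iff_commutator_le_right.mp (hY.trans hnZ)
  refine comm_sup_left (hY.trans hYQ) hJQ ?_ ?_
  · exact comm_sup_right (hZ.trans hYQ) hJQ hYZ hYJ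
  · refine comm_sup_right (hZ.trans hYQ) hJQ ?_ hJJ
    rw [commutator_comm]; exact hZJ

theorem iInf_step {M J S : Subgroup G} (hJ : M ≤ normalizer (J : Set G)) {ι : Type*} [Finite ι]
    (Y : ι → Subgroup G) (hY : ∀ i, Y i ≤ M)
    (hn : ∀ i, M ≤ normalizer ((Y i : Subgroup G) : Set G)) (hS : S ≤ ⁅S, S⁆ ⊔ J)
    (h0 : S ≤ M ⊔ J) (h : ∀ i, S ≤ Y i ⊔ J) : S ≤ (M ⊓ ⨅ i, Y i) ⊔ J := by
  classical
  cases nonempty_fintype ι
  have key : ∀ s : Finset ι, S ≤ (M ⊓ ⨅ i ∈ s, Y i) ⊔ J := by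
    intro s
    induction s using Finset.induction_on with
    | empty => simpa using h0
    | insert i s _ ih =>
      rw [Finset.iInf_insert, inf_left_comm]
      exact inf_step hJ (hY i) inf_le_left (hn i) (norm_inf le_normalizer
        (norm_iInf fun j => norm_iInf fun _ => hn j)) hS (h i) ih
  simpa using key Finset.univ

theorem relIndex_sup_of_norm {M J : Subgroup G} (hJ : M ≤ normalizer (J : Set G)) :
    J.relIndex (M ⊔ J) = J.relIndex M := by
  have h1 : J.relIndex (M ⊔ J) = (J.subgroupOf (M ⊔ J)).index := rfl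
  have hn : (J.subgroupOf (M ⊔ J)).Normal := by
    rw [normal_subgroupOf_iff_le_normalizer le_sup_right]
    exact sup_le hJ le_normalizer
  have h2 := relIndex_sup_right (M.subgroupOf (M ⊔ J)) (J.subgroupOf (M ⊔ J))
  rw [← subgroupOf_sup le_sup_left le_sup_right, subgroupOf_self, relIndex_top_right] at h2
  rw [h1, h2, relIndex_subgroupOf le_sup_left]

/-! ### The structure -/

/-- See the header. -/
structure AS (W J S : Subgroup G) : Prop where
  JS : J ≤ S
  SW : S ≤ W
  nJ : W ≤ normalizer (J : Set G)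
  key : ∀ Y ≤ W, S ≤ normalizer ((Y ⊔ J : Subgroup G) : Set G) → Y ≤ J ∨ S ≤ Y ⊔ J
  perf : S ≤ ⁅S, S⁆ ⊔ J
  com : ⁅W, W⁆ ≤ S
  ne : ¬ S ≤ J

namespace AS

variable {W J S : Subgroup G}

theorem nS (h : AS W J S) : W ≤ normalizer (S : Set G) := by
  rw [le_normalizer_iff_commutator_le_right]
  exact (commutator_mono le_rfl h.SW).trans h.com

theorem key' (h : AS W J S) {Y : Subgroup G} (hY : Y ≤ W) (hn : S ≤ normalizer (Y : Set G)) :
    Y ≤ J ∨ S ≤ Y ⊔ J :=
  h.key Y hY (norm_sup hn (h.SW.trans h.nJ))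

/-- The centralizer of the section. -/
theorem le_of_comm (h : AS W J S) {Y : Subgroup G} (hY : Y ≤ W) (hc : ⁅Y, S⁆ ≤ J) : Y ≤ J := by
  have hn : S ≤ normalizer ((Y ⊔ J : Subgroup G) : Set G) := by
    rw [le_normalizer_iff_commutator_le_right]
    have hYN : Y ≤ normalizer ((Y ⊔ J : Subgroup G) : Set G) := le_sup_left.trans le_normalizer
    have hJN : J ≤ normalizer ((Y ⊔ J : Subgroup G) : Set G) := le_sup_right.trans le_normalizer
    refine comm_sup_right hYN hJN ?_ ?_
    · rw [commutator_comm]; exact hc.trans le_sup_right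
    · exact (le_normalizer_iff_commutator_le_right.mp (h.SW.trans h.nJ)).trans le_sup_right
  rcases h.key Y hY hn with h1 | h1
  · exact h1
  · exfalso
    apply h.ne
    refine h.perf.trans (sup_le ?_ le_rfl)
    refine (commutator_mono h1 le_rfl).trans ?_
    refine comm_sup_left (hY.trans h.nJ) le_normalizer hc ?_
    exact le_normalizer_iff_commutator_le_left.mp (h.SW.trans h.nJ)

/-- A perfect subgroup of `W` is in `S`. -/
theorem le_of_perfect (h : AS W J S) {N : Subgroup G} (hN : N ≤ W) (hp : ⁅N, N⁆ = N) : N ≤ S := by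
  rw [← hp]
  exact (commutator_mono hN hN).trans h.com

/-- No group with small quotients. -/
theorem false_of_family [Finite G] (h : AS W J S) {M : Subgroup G} (hMW : M ≤ W) (hSM : S ≤ M ⊔ J)
    {ι : Type*} [Finite ι] (Y : ι → Subgroup G) (hY : ∀ i, Y i ≤ M)
    (hn : ∀ i, M ≤ normalizer ((Y i : Subgroup G) : Set G))
    (hc : ∀ i, (Y i).relIndex M < J.relIndex S) (hinf : M ⊓ ⨅ i, Y i ≤ J) : False := by
  have h1 : ∀ i, S ≤ Y i ⊔ J := by
    intro i
    have h2 : S ≤ normalizer ((Y i ⊔ J : Subgroup G) : Set G) := by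
      refine hSM.trans (sup_le ?_ (le_sup_right.trans le_normalizer))
      exact norm_sup (hn i) (hMW.trans h.nJ)
    rcases h.key _ ((hY i).trans hMW) h2 with h3 | h3
    · exfalso
      have h4 : J.relIndex S ≤ J.relIndex (M ⊔ J) :=
        relIndex_le_of_le_right hSM (index_ne_zero_of_finite (H := J.subgroupOf (M ⊔ J)))
      rw [relIndex_sup_of_norm (hMW.trans h.nJ)] at h4
      have h5 : J.relIndex M ≤ (Y i).relIndex M :=
        relIndex_le_of_le_left h3 (index_ne_zero_of_finite (H := (Y i).subgroupOf M))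
      exact absurd (hc i) (not_lt.mpr (h4.trans h5))
    · exact h3
  apply h.ne
  refine (iInf_step (hMW.trans h.nJ) Y hY hn h.perf hSM h1).trans ?_
  exact sup_le hinf le_rfl

end AS

end Cfsg.Agent.H508.AltSec
end

-- part: H508/AltHom
section
/-!
# Homomorphisms to symmetric groups whose range contains the alternating group
-/

set_option autoImplicit false
set_option linter.unusedSectionVars false

namespace Cfsg.Agent.H508.AltHom

open Subgroup Equiv.Perm
open Cfsg.Agent.H508.AltSec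
open scoped commutatorElement

section perm

variable {X : Type*} [Fintype X] [DecidableEq X]

/-- The alternating group has trivial centralizer. -/
theorem centralizer_alternating (h4 : 4 ≤ Fintype.card X) :
    centralizer (alternatingGroup X : Set (Equiv.Perm X)) = ⊥ := by
  rw [eq_bot_iff]
  intro y hy
  rw [mem_centralizer_iff] at hy
  rw [mem_bot]
  ext a
  rw [Equiv.Perm.one_apply]
  by_contra hya
  have h1 : ({a, y a} : Finset X).card < (Finset.univ : Finset X).card := by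
    rw [Finset.card_univ]
    exact lt_of_le_of_lt (Finset.card_le_two) (by omega)
  obtain ⟨c, -, hc⟩ := Finset.exists_mem_notMem_of_card_lt_card h1
  have h2 : ({a, y a, c} : Finset X).card < (Finset.univ : Finset X).card := by
    rw [Finset.card_univ]
    exact lt_of_le_of_lt (Finset.card_le_three) (by omega)
  obtain ⟨d, -, hd⟩ := Finset.exists_mem_notMem_of_card_lt_card h2
  simp only [Finset.mem_insert, Finset.mem_singleton, not_or] at hc hd
  obtain ⟨hca, hcy⟩ := hc
  obtain ⟨hda, hdy, hdc⟩ := hd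
  have hτ : Equiv.swap (y a) c * Equiv.swap c d ∈ (alternatingGroup X : Set (Equiv.Perm X)) := by
    rw [SetLike.mem_coe, mem_alternatingGroup, Equiv.Perm.sign_mul, sign_swap (Ne.symm hcy),
      sign_swap (Ne.symm hdc)]
    rfl
  have h3 := congrArg (fun f : Equiv.Perm X => f a) (hy _ hτ)
  simp only [Equiv.Perm.mul_apply] at h3
  rw [Equiv.swap_apply_of_ne_of_ne (Ne.symm hca) (Ne.symm hda),
    Equiv.swap_apply_of_ne_of_ne (Ne.symm hya) (Ne.symm hca),
    Equiv.swap_apply_of_ne_of_ne (Ne.symm hcy) (Ne.symm hdy), Equiv.swap_apply_left] at h3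
  exact hcy h3

theorem perm_key (h5 : 5 ≤ Fintype.card X) {Y : Subgroup (Equiv.Perm X)}
    (hn : alternatingGroup X ≤ normalizer (Y : Set (Equiv.Perm X))) :
    Y = ⊥ ∨ alternatingGroup X ≤ Y := by
  have h5' : 5 ≤ Nat.card X := by rwa [Nat.card_eq_fintype_card]
  have := alternatingGroup.isSimpleGroup h5'
  have hAn : Y ≤ normalizer (alternatingGroup X : Set (Equiv.Perm X)) := by
    rw [normalizer_eq_top]; exact le_top
  have h1 : alternatingGroup X ≤ normalizer ((Y ⊓ alternatingGroup X : Subgroup _) :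
      Set (Equiv.Perm X)) := norm_inf hn le_normalizer
  have h2 : ((Y ⊓ alternatingGroup X).subgroupOf (alternatingGroup X)).Normal := by
    rw [normal_subgroupOf_iff_le_normalizer inf_le_right]
    exact h1
  rcases h2.eq_bot_or_eq_top with h3 | h3
  · left
    rw [subgroupOf_eq_bot] at h3
    have h4 : Y ⊓ alternatingGroup X = ⊥ := by
      rw [eq_bot_iff]
      exact h3.le_bot.trans' (le_inf le_rfl inf_le_right)
    rw [eq_bot_iff, ← centralizer_alternating (X := X) (by omega),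
      ← commutator_eq_bot_iff_le_centralizer, eq_bot_iff, ← h4]
    exact le_inf (le_normalizer_iff_commutator_le_left.mp hn)
      (le_normalizer_iff_commutator_le_right.mp hAn)
  · right
    rw [subgroupOf_eq_top] at h3
    exact h3.trans inf_le_left

end perm

section hom

variable {G : Type*} [Group G] {W J : Subgroup G} {X : Type*} [Fintype X] [DecidableEq X]
  (f : W →* Equiv.Perm X)

/-- The preimage of the alternating group. -/
def sec : Subgroup G := ((alternatingGroup X).comap f).map W.subtype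

theorem mem_sec {x : G} : x ∈ sec f ↔ ∃ h : x ∈ W, f ⟨x, h⟩ ∈ alternatingGroup X := by
  constructor
  · rintro ⟨y, hy, rfl⟩
    exact ⟨y.2, hy⟩
  · rintro ⟨h, hx⟩
    exact ⟨⟨x, h⟩, hx, rfl⟩

theorem sec_le : sec f ≤ W := fun _ hx => (mem_sec f |>.mp hx).1

variable {f} (hf : f.ker = J.subgroupOf W) (hJ : J ≤ W) (ha : alternatingGroup X ≤ f.range)
include hf hJ ha

theorem mem_J_iff {x : G} (hx : x ∈ W) : x ∈ J ↔ f ⟨x, hx⟩ = 1 := by
  rw [← MonoidHom.mem_ker, hf, mem_subgroupOf]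

theorem as_sec (h5 : 5 ≤ Fintype.card X) : AS W J (sec f) := by
  have h5' : 5 ≤ Nat.card X := by rwa [Nat.card_eq_fintype_card]
  refine ⟨?_, sec_le f, ?_, ?_, ?_, ?_, ?_⟩
  · intro x hx
    rw [mem_sec]
    refine ⟨hJ hx, ?_⟩
    rw [(mem_J_iff hf hJ ha (hJ hx)).mp hx]
    exact one_mem _
  · rw [← normal_subgroupOf_iff_le_normalizer hJ, ← hf]
    exact f.normal_ker
  · intro Y hY hn
    set Y' : Subgroup (Equiv.Perm X) := (Y.subgroupOf W).map f with hY'
    have hYJ : ∀ x (hx : x ∈ W), x ∈ Y ⊔ J → f ⟨x, hx⟩ ∈ Y' := by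
      intro x hx hxs
      have h1 : Y ⊔ J ≤ (Y'.comap f).map W.subtype := by
        refine sup_le ?_ ?_
        · intro y hy
          exact ⟨⟨y, hY hy⟩, mem_map_of_mem f (mem_subgroupOf.mpr hy), rfl⟩
        · intro y hy
          refine ⟨⟨y, hJ hy⟩, ?_, rfl⟩
          have : f ⟨y, hJ hy⟩ = 1 := (mem_J_iff hf hJ ha (hJ hy)).mp hy
          change f ⟨y, hJ hy⟩ ∈ Y'
          rw [this]
          exact one_mem _
      obtain ⟨⟨z, hz⟩, hz1, hz2⟩ := h1 hxs
      change z = x at hz2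
      subst hz2
      exact hz1
    have hn' : alternatingGroup X ≤ normalizer (Y' : Set (Equiv.Perm X)) := by
      rw [le_normalizer_iff_commutator_le_right, commutator_le]
      intro σ hσ τ hτ
      obtain ⟨⟨w, hw⟩, rfl⟩ := ha hσ
      obtain ⟨⟨y, hy⟩, hy1, rfl⟩ := hτ
      have hyY : y ∈ Y := mem_subgroupOf.mp hy1
      rw [← map_commutatorElement]
      have hws : w ∈ sec f := (mem_sec f).mpr ⟨hw, hσ⟩
      have h1 : w * y * w⁻¹ ∈ Y ⊔ J := (mem_normalizer_iff.mp (hn hws) y).mp (mem_sup_left hyY)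
      have h2 : w * y * w⁻¹ * y⁻¹ ∈ Y ⊔ J := mul_mem h1 (mem_sup_left (inv_mem hyY))
      have h3 := hYJ _ (mul_mem (mul_mem (mul_mem hw hy) (inv_mem hw)) (inv_mem hy)) h2
      exact h3
    rcases perm_key h5 hn' with h1 | h1
    · left
      intro y hy
      rw [mem_J_iff hf hJ ha (hY hy)]
      have h2 : f ⟨y, hY hy⟩ ∈ Y' := mem_map_of_mem f (mem_subgroupOf.mpr hy)
      rwa [h1, mem_bot] at h2
    · right
      intro x hx
      obtain ⟨hxW, hxa⟩ := (mem_sec f).mp hx
      obtain ⟨⟨y, hy⟩, hy1, hy2⟩ := h1 hxa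
      have hyY : y ∈ Y := mem_subgroupOf.mp hy1
      have h3 : y⁻¹ * x ∈ J := by
        rw [mem_J_iff hf hJ ha (mul_mem (inv_mem hy) hxW)]
        have : (⟨y⁻¹ * x, mul_mem (inv_mem hy) hxW⟩ : W) = ⟨y, hy⟩⁻¹ * ⟨x, hxW⟩ := rfl
        rw [this, map_mul, map_inv, hy2, inv_mul_cancel]
      have e : x = y * (y⁻¹ * x) := by group
      rw [e]
      exact mul_mem (mem_sup_left hyY) (mem_sup_right h3)
  · intro x hx
    obtain ⟨hxW, hxa⟩ := (mem_sec f).mp hx
    have h1 : (⁅sec f, sec f⁆.subgroupOf W).map f = alternatingGroup X := by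
      apply le_antisymm
      · rintro _ ⟨⟨y, hy⟩, hy1, rfl⟩
        have h2 : y ∈ sec f := (commutator_le_self (sec f)) (mem_subgroupOf.mp hy1)
        exact ((mem_sec f).mp h2).2
      · have h2 : ⁅alternatingGroup X, alternatingGroup X⁆ = alternatingGroup X := by
          have h3 := commutator_alternatingGroup_eq_top (α := X) h5'
          have h4 := congrArg (Subgroup.map (alternatingGroup X).subtype) h3
          rwa [map_subtype_commutator, ← MonoidHom.range_eq_map, range_subtype] at h4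
        rw [← h2, commutator_le]
        intro σ hσ τ hτ
        obtain ⟨⟨w, hw⟩, rfl⟩ := ha hσ
        obtain ⟨⟨v, hv⟩, rfl⟩ := ha hτ
        rw [← map_commutatorElement]
        refine mem_map_of_mem f ?_
        rw [mem_subgroupOf]
        exact commutator_mem_commutator ((mem_sec f).mpr ⟨hw, hσ⟩) ((mem_sec f).mpr ⟨hv, hτ⟩)
    rw [← h1] at hxa
    obtain ⟨⟨y, hy⟩, hy1, hy2⟩ := hxa
    have h3 : y⁻¹ * x ∈ J := by
      rw [mem_J_iff hf hJ ha (mul_mem (inv_mem hy) hxW)]
      have : (⟨y⁻¹ * x, mul_mem (inv_mem hy) hxW⟩ : W) = ⟨y, hy⟩⁻¹ * ⟨x, hxW⟩ := rfl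
      rw [this, map_mul, map_inv, hy2, inv_mul_cancel]
    have e : x = y * (y⁻¹ * x) := by group
    rw [e]
    exact mul_mem (mem_sup_left (mem_subgroupOf.mp hy1)) (mem_sup_right h3)
  · rw [commutator_le]
    intro x hx y hy
    rw [mem_sec]
    refine ⟨W.mul_mem (W.mul_mem (W.mul_mem hx hy) (W.inv_mem hx)) (W.inv_mem hy), ?_⟩
    rw [mem_alternatingGroup]
    have : (⟨⁅x, y⁆, W.mul_mem (W.mul_mem (W.mul_mem hx hy) (W.inv_mem hx)) (W.inv_mem hy)⟩ : W) =
      ⁅(⟨x, hx⟩ : W), (⟨y, hy⟩ : W)⁆ := rfl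
    rw [this, map_commutatorElement, map_commutatorElement]
    exact (Commute.all _ _).commutator_eq
  · intro hcon
    have hnt : Nontrivial (alternatingGroup X) :=
      alternatingGroup.nontrivial_of_three_le_card (by omega)
    obtain ⟨⟨σ, hσ⟩, hσ1⟩ := exists_ne (1 : alternatingGroup X)
    obtain ⟨⟨w, hw⟩, rfl⟩ := ha hσ
    have h1 : w ∈ J := hcon ((mem_sec f).mpr ⟨hw, hσ⟩)
    rw [mem_J_iff hf hJ ha hw] at h1
    exact hσ1 (Subtype.ext h1)

theorem relIndex_sec [Nontrivial X] : 2 * J.relIndex (sec f) = (Fintype.card X).factorial := by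
  rw [← Nat.card_eq_fintype_card, ← Nat.card_perm, ← two_mul_nat_card_alternatingGroup]
  congr 1
  have h1 : J = f.ker.map W.subtype := by
    rw [hf, subgroupOf_map_subtype, inf_eq_left.mpr hJ]
  rw [h1, sec, relIndex_map_map_of_injective _ _ (subtype_injective W), relIndex_ker,
    map_comap_eq, inf_eq_right.mpr ha]

theorem relIndex_W : J.relIndex W = Nat.card f.range := by
  rw [← index_ker, hf]; rfl

theorem relIndex_W_le : J.relIndex W ≤ (Fintype.card X).factorial := by
  rw [relIndex_W hf hJ ha, ← Nat.card_eq_fintype_card, ← Nat.card_perm]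
  exact Nat.le_of_dvd Nat.card_pos (card_subgroup_dvd_card _)

end hom

end Cfsg.Agent.H508.AltHom
end
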