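import Mathlib
import Cfsg.Prelude.Def_Solvable
import Cfsg.Agent.S4059
import Cfsg.Agent.Lib.SolvableNormalP
import Cfsg.Agent.Lib.HallHigman
import Cfsg.Agent.Solvable.UniqueOrderP
set_option linter.all false

set_option autoImplicit false
set_option linter.style.haveILetI false
open Cfsg

/-!
# Solvable ambivalent groups with one class of involutions
-/

namespace Cfsg.Agent.H508.Ambivalent

open Subgroup

/-- A group of odd order in which every element is conjugate to its inverse is trivial. -/
theorem subsingleton_of_odd {G : Type*} [Group G] [Finite G] (hamb : ∀ x : G, IsConj x x⁻¹)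
    (hodd : Odd (Nat.card G)) : Subsingleton G := by
  refine ⟨fun x y => ?_⟩
  have key : ∀ x : G, x = 1 := by
    intro x
    have h1 : Odd (centralizer ({x} : Set G)).index :=
      hodd.of_dvd_nat (centralizer ({x} : Set G)).index_dvd_card
    have h2 := S4059.sq_eq_one_of_odd x (hamb x) h1
    have h3 : orderOf x ∣ 2 := orderOf_dvd_of_pow_eq_one h2
    have h4 : Odd (orderOf x) := hodd.of_dvd_nat (orderOf_dvd_natCard x)
    rcases (Nat.dvd_prime Nat.prime_two).1 h3 with h | h
    · exact orderOf_eq_one_iff.1 h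
    · rw [h] at h4; exact absurd h4 (by decide)
  rw [key x, key y]

theorem isConj_quotient {G : Type*} [Group G] (N : Subgroup G) [N.Normal] {x y : G}
    (h : IsConj x y) : IsConj (x : G ⧸ N) (y : G ⧸ N) := by
  obtain ⟨c, hc⟩ := isConj_iff.1 h
  exact isConj_iff.2 ⟨(c : G ⧸ N), congrArg (QuotientGroup.mk : G → G ⧸ N) hc⟩

/-- Being ambivalent passes to quotients. -/
theorem ambivalent_quotient {G : Type*} [Group G] (hamb : ∀ x : G, IsConj x x⁻¹)
    (N : Subgroup G) [N.Normal] (x : G ⧸ N) : IsConj x x⁻¹ := by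
  obtain ⟨x, rfl⟩ := QuotientGroup.mk_surjective x
  exact isConj_quotient N (hamb x)

/-- If `A` is normal and centralizes a nontrivial element of the normal subgroup `E` whose
nontrivial elements are all conjugate, then `A` centralizes `E`. -/
theorem le_centralizer_of_fixed {H : Type*} [Group H] (E A : Subgroup H) [A.Normal]
    (hconj : ∀ s t : H, s ∈ E → t ∈ E → s ≠ 1 → t ≠ 1 → IsConj s t) {e : H} (he : e ∈ E)
    (he1 : e ≠ 1) (hA : ∀ a ∈ A, a * e = e * a) : A ≤ centralizer (E : Set H) := by
  intro a ha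
  rw [mem_centralizer_iff]
  intro f hf
  by_cases hf1 : f = 1
  · subst hf1; simp
  obtain ⟨g, hg⟩ := isConj_iff.1 (hconj e f he hf he1 hf1)
  have h1 : g⁻¹ * a * g ∈ A := by
    have := Normal.conj_mem (inferInstance : A.Normal) a ha g⁻¹
    simpa using this
  have h2 := hA _ h1
  rw [← hg]
  calc g * e * g⁻¹ * a = g * (e * (g⁻¹ * a * g)) * g⁻¹ := by group
    _ = g * ((g⁻¹ * a * g) * e) * g⁻¹ := by rw [h2]
    _ = a * (g * e * g⁻¹) := by group

/-- Supplement for a normal section of prime power order. -/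
theorem sup_sylow {H : Type*} [Group H] [Finite H] (D A : Subgroup H) (r : ℕ) [hr : Fact r.Prime]
    (h : ∃ m, D.relIndex A = r ^ m) (R : Sylow r A) :
    (R : Subgroup A) ⊔ D.subgroupOf A = ⊤ := by
  obtain ⟨m, hm⟩ := h
  set K := (R : Subgroup A) ⊔ D.subgroupOf A with hK
  have h1 : K.index ∣ (R : Subgroup A).index := index_dvd_of_le le_sup_left
  have h2 : K.index ∣ r ^ m := by
    rw [← hm]
    exact index_dvd_of_le le_sup_right
  obtain ⟨k, -, hk⟩ := (Nat.dvd_prime_pow hr.out).1 h2
  have h3 : k = 0 := by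
    by_contra hk0
    apply R.not_dvd_index
    refine dvd_trans ?_ h1
    rw [hk]
    exact dvd_pow_self r hk0
  rw [h3, pow_zero] at hk
  exact index_eq_one.1 hk

/-- **Key lemma.** Let `H` be a finite solvable group in which every element is conjugate to its
inverse and all involutions are conjugate, and let `E` be a nontrivial normal subgroup of exponent
`2` containing all involutions. Then `H` has a unique involution. -/
theorem unique_of_normal {H : Type*} [Group H] [Finite H] [Group.IsSolvable H]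
    (hamb : ∀ x : H, IsConj x x⁻¹) (hone : ∀ s t : H, orderOf s = 2 → orderOf t = 2 → IsConj s t)
    (E : Subgroup H) [hEn : E.Normal] (hE : ∀ x ∈ E, x ^ 2 = 1) (hEall : ∀ t : H, orderOf t = 2 → t ∈ E)
    (s t : H) (hs : orderOf s = 2) (ht : orderOf t = 2) : s = t := by
  classical
  have hEo : ∀ x ∈ E, x ≠ 1 → orderOf x = 2 := fun x hx hx1 => orderOf_eq_prime (hE x hx) hx1
  have hconj : ∀ s t : H, s ∈ E → t ∈ E → s ≠ 1 → t ≠ 1 → IsConj s t :=
    fun s t hs ht hs1 ht1 => hone s t (hEo s hs hs1) (hEo t ht ht1)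
  set D := centralizer (E : Set H) with hD
  by_cases hDt : D = ⊤
  · have hs' : s ∈ E := hEall s hs
    obtain ⟨c, hc⟩ := isConj_iff.1 (hone s t hs ht)
    have h1 : c ∈ D := by rw [hDt]; trivial
    have h2 := (mem_centralizer_iff.1 h1) s hs'
    rw [← hc, ← h2]; group
  exfalso
  have hDn : D.Normal := inferInstance
  have hnt : Nontrivial (H ⧸ D) := by
    rw [← not_subsingleton_iff_nontrivial]
    intro h
    exact hDt (QuotientGroup.subgroup_eq_top_of_subsingleton D h)
  obtain ⟨r, N, hr, hNn, hNp, hNc, hN1⟩ := Lib.SolvableNormalP.exists_normal_pSubgroup (H ⧸ D)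
  have : Fact r.Prime := ⟨hr⟩
  have hf : Function.Surjective (QuotientGroup.mk' D) := QuotientGroup.mk'_surjective D
  set A := N.comap (QuotientGroup.mk' D) with hA
  have hAn : A.Normal := hNn.comap _
  have hDA : D ≤ A := by
    intro x hx
    rw [hA, Subgroup.mem_comap]
    have : QuotientGroup.mk' D x = 1 := (QuotientGroup.eq_one_iff x).mpr hx
    rw [this]; exact N.one_mem
  have hnAD : ¬ A ≤ D := by
    intro h
    apply hN1
    rw [← Subgroup.map_comap_eq_self_of_surjective hf N]
    rw [eq_bot_iff]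
    rintro _ ⟨x, hx, rfl⟩
    rw [Subgroup.mem_bot]
    exact (QuotientGroup.eq_one_iff x).mpr (h hx)
  have hrel : D.relIndex A = Nat.card N := by
    have h1 := Subgroup.relIndex_ker (K := A) (QuotientGroup.mk' D)
    rwa [QuotientGroup.ker_mk', hA, Subgroup.map_comap_eq_self_of_surjective hf] at h1
  have hfix : ∀ e ∈ E, e ≠ 1 → (∀ a ∈ A, a * e = e * a) → False := by
    intro e he he1 h
    exact hnAD (le_centralizer_of_fixed E A hconj he he1 h)
  let R : Sylow r A := default
  have hsup := sup_sylow D A r (by rw [hrel]; exact IsPGroup.iff_card.1 hNp) R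
  set R' := (R : Subgroup A).map A.subtype with hR'
  -- every element of `A` is a product of an element of `R'` and one of `D`
  have hprod : ∀ a ∈ A, ∃ x ∈ R', ∃ d ∈ D, a = x * d := by
    intro a ha
    have h1 : (⟨a, ha⟩ : A) ∈ (R : Subgroup A) ⊔ D.subgroupOf A := by rw [hsup]; trivial
    obtain ⟨x, hx, d, hd, hxd⟩ := Subgroup.mem_sup_of_normal_right.1 h1
    exact ⟨x, ⟨x, hx, rfl⟩, d, hd, (congrArg Subtype.val hxd).symm⟩
  have hfix' : ∀ e ∈ E, e ≠ 1 → (∀ a ∈ R', a * e = e * a) → False := by
    intro e he he1 h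
    refine hfix e he he1 ?_
    intro a ha
    obtain ⟨x, hx, d, hd, rfl⟩ := hprod a ha
    have h1 := (mem_centralizer_iff.1 hd) e he
    have h2 := h x hx
    rw [mul_assoc, ← h1, ← mul_assoc, h2, mul_assoc]
  have hR'p : IsPGroup r R' := R.2.map _
  have hs' : s ∈ E := hEall s hs
  have hs1 : s ≠ 1 := by
    rintro rfl
    rw [orderOf_one] at hs; exact absurd hs (by decide)
  by_cases hr2 : r = 2
  · -- a `2`-group acting on `E` has nontrivial fixed points
    subst hr2
    have hEp : IsPGroup 2 E := by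
      intro x
      exact ⟨1, by rw [pow_one]; exact Subtype.ext (hE x x.2)⟩
    let φ : R' →* MulAut E := (MulAut.conjNormal (H := E)).comp R'.subtype
    letI : MulAction R' E := MulAction.compHom E φ
    have hsmul : ∀ (x : R') (e : E), ((x • e : E) : H) = x * e * (x : H)⁻¹ := by
      intro x e
      change (((MulAut.conjNormal (H := E)) (x : H) e : E) : H) = _
      rw [MulAut.conjNormal_apply]
    have h2 : 2 ∣ Nat.card E := by
      have := orderOf_dvd_natCard (⟨s, hs'⟩ : E)
      rwa [← Subgroup.orderOf_coe, hs] at this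
    have h1mem : (1 : E) ∈ MulAction.fixedPoints R' E := by
      intro x
      apply Subtype.ext
      rw [hsmul]; simp
    obtain ⟨b, hb, hb1⟩ :=
      hR'p.exists_fixed_point_of_prime_dvd_card_of_fixed_point E h2 h1mem
    refine hfix' b b.2 (fun h => hb1 (Subtype.ext h.symm)) ?_
    intro a ha
    have h3 := congrArg Subtype.val (hb ⟨a, ha⟩)
    rw [hsmul] at h3
    exact mul_inv_eq_iff_eq_mul.1 h3
  · -- `N_H(R')` has odd order
    set M := normalizer (R' : Set H) with hM
    have hdisj : ∀ y : H, y ∈ R' → y ∈ E → y = 1 := by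
      intro y hyR hyE
      obtain ⟨k, hk⟩ := (IsPGroup.iff_orderOf.1 hR'p) ⟨y, hyR⟩
      rw [← Subgroup.orderOf_coe] at hk
      change orderOf y = r ^ k at hk
      have h1 : orderOf y ∣ 2 := orderOf_dvd_of_pow_eq_one (hE y hyE)
      have h2 : Odd (orderOf y) := by
        rw [hk]; exact (hr.odd_of_ne_two hr2).pow
      rcases (Nat.dvd_prime Nat.prime_two).1 h1 with h | h
      · exact orderOf_eq_one_iff.1 h
      · rw [h] at h2; exact absurd h2 (by decide)
    have hModd : Odd (Nat.card M) := by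
      rw [← Nat.not_even_iff_odd, even_iff_two_dvd]
      intro h2
      have : Fact (Nat.Prime 2) := ⟨Nat.prime_two⟩
      obtain ⟨⟨u, huM⟩, hu⟩ := exists_prime_orderOf_dvd_card' 2 h2
      rw [← Subgroup.orderOf_coe] at hu
      change orderOf u = 2 at hu
      have huE : u ∈ E := hEall u hu
      have hu1 : u ≠ 1 := by
        rintro rfl
        rw [orderOf_one] at hu; exact absurd hu (by decide)
      refine hfix' u huE hu1 ?_
      intro a ha
      have h3 : a * u * a⁻¹ * u⁻¹ = 1 := by
        apply hdisj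
        · have h4 : u * a⁻¹ * u⁻¹ ∈ R' := (mem_normalizer_iff.1 huM a⁻¹).1 (R'.inv_mem ha)
          have h5 : a * u * a⁻¹ * u⁻¹ = a * (u * a⁻¹ * u⁻¹) := by group
          rw [h5]; exact R'.mul_mem ha h4
        · exact E.mul_mem (hEn.conj_mem u huE a) (E.inv_mem huE)
      exact mul_inv_eq_iff_eq_mul.1 (mul_inv_eq_one.1 h3)
    -- Frattini argument
    have hfrat : M ⊔ A = ⊤ := Sylow.normalizer_sup_eq_top R
    have hsurj : Function.Surjective ((QuotientGroup.mk' D).comp M.subtype) := by
      intro y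
      obtain ⟨y, rfl⟩ := hf y
      have hy : y ∈ M ⊔ A := by rw [hfrat]; trivial
      obtain ⟨m, hm, a, ha, rfl⟩ := Subgroup.mem_sup_of_normal_right.1 hy
      obtain ⟨x, hx, d, hd, rfl⟩ := hprod a ha
      refine ⟨⟨m * x, M.mul_mem hm (le_normalizer hx)⟩, ?_⟩
      change QuotientGroup.mk' D (m * x) = QuotientGroup.mk' D (m * (x * d))
      have h3 : QuotientGroup.mk' D d = 1 := (QuotientGroup.eq_one_iff d).mpr hd
      rw [← mul_assoc, map_mul _ (m * x) d, h3, mul_one]
    have hcard : Nat.card (H ⧸ D) ∣ Nat.card M := Subgroup.card_dvd_of_surjective _ hsurj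
    have := subsingleton_of_odd (ambivalent_quotient hamb D) (hModd.of_dvd_nat hcard)
    exact not_subsingleton (H ⧸ D) this

/-- An involution of the quotient by a normal subgroup of odd order lifts to an involution. -/
theorem lift_involution {G : Type*} [Group G] [Finite G] (N : Subgroup G) [N.Normal]
    (hN : Odd (Nat.card N)) (y : G ⧸ N) (hy : orderOf y = 2) :
    ∃ t : G, orderOf t = 2 ∧ (t : G ⧸ N) = y := by
  obtain ⟨x, rfl⟩ := QuotientGroup.mk_surjective y
  have h1 : x ^ 2 ∈ N := by
    rw [← QuotientGroup.eq_one_iff]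
    have := pow_orderOf_eq_one (x : G ⧸ N)
    rw [hy] at this
    exact this
  have h2 : (x ^ Nat.card N) ^ 2 = 1 := by
    rw [← pow_mul, mul_comm, pow_mul]
    exact Lib.HallHigman.pow_card_of_mem h1
  have h3 : ((x ^ Nat.card N : G) : G ⧸ N) = (x : G ⧸ N) := by
    obtain ⟨k, hk⟩ := hN
    have h4 : ((x ^ Nat.card N : G) : G ⧸ N) = (x : G ⧸ N) ^ Nat.card N := rfl
    have h5 : (x : G ⧸ N) ^ 2 = 1 := by
      have := pow_orderOf_eq_one (x : G ⧸ N)
      rwa [hy] at this
    rw [h4, hk, pow_add, pow_mul, h5, one_pow, one_mul, pow_one]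
  refine ⟨x ^ Nat.card N, orderOf_eq_prime h2 ?_, h3⟩
  intro h6
  rw [h6] at h3
  rw [← h3] at hy
  have : orderOf ((1 : G) : G ⧸ N) = 1 := orderOf_one
  rw [this] at hy
  exact absurd hy (by decide)

/-- One class of involutions passes to the quotient by a normal subgroup of odd order. -/
theorem one_class_quotient {G : Type*} [Group G] [Finite G] (N : Subgroup G) [N.Normal]
    (hN : Odd (Nat.card N))
    (hone : ∀ s t : G, orderOf s = 2 → orderOf t = 2 → IsConj s t) (s t : G ⧸ N)
    (hs : orderOf s = 2) (ht : orderOf t = 2) : IsConj s t := by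
  obtain ⟨s', hs', rfl⟩ := lift_involution N hN s hs
  obtain ⟨t', ht', rfl⟩ := lift_involution N hN t ht
  exact isConj_quotient N (hone s' t' hs' ht')

/-- A finite solvable ambivalent group with trivial `O_{2'}` and one class of involutions has only
one involution. -/
theorem unique_of_core {H : Type*} [Group H] [Finite H] [Group.IsSolvable H]
    (hamb : ∀ x : H, IsConj x x⁻¹) (hone : ∀ s t : H, orderOf s = 2 → orderOf t = 2 → IsConj s t)
    (hcore : pPrimeCore 2 H = ⊥)
    (s t : H) (hs : orderOf s = 2) (ht : orderOf t = 2) : s = t := by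
  classical
  have hs1 : s ≠ 1 := by
    rintro rfl
    rw [orderOf_one] at hs; exact absurd hs (by decide)
  have : Nontrivial H := ⟨⟨s, 1, hs1⟩⟩
  obtain ⟨r, N, hr, hNn, hNp, hNc, hN1⟩ := Lib.SolvableNormalP.exists_normal_pSubgroup H
  have : Fact r.Prime := ⟨hr⟩
  have hr2 : r = 2 := by
    by_contra hr2
    apply hN1
    rw [eq_bot_iff, ← hcore]
    apply Lib.HallHigman.le_pPrimeCore hNn
    obtain ⟨n, hn⟩ := IsPGroup.iff_card.1 hNp
    rw [hn]
    exact Nat.Coprime.pow_left _ ((Nat.coprime_primes hr Nat.prime_two).2 hr2)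
  subst hr2
  let E : Subgroup H :=
    { carrier := {x | x ∈ N ∧ x ^ 2 = 1}
      mul_mem' := by
        rintro a b ⟨ha, ha2⟩ ⟨hb, hb2⟩
        refine ⟨N.mul_mem ha hb, ?_⟩
        have hab : Commute a b := congrArg Subtype.val (hNc.is_comm.comm (⟨a, ha⟩ : N) ⟨b, hb⟩)
        rw [hab.mul_pow, ha2, hb2, one_mul]
      one_mem' := ⟨N.one_mem, one_pow 2⟩
      inv_mem' := by
        rintro a ⟨ha, ha2⟩
        exact ⟨N.inv_mem ha, by rw [inv_pow, ha2, inv_one]⟩ }
  have hEn : E.Normal := by
    refine ⟨fun n hn g => ⟨hNn.conj_mem n hn.1 g, ?_⟩⟩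
    rw [conj_pow, hn.2]; simp
  obtain ⟨u, huN, hu⟩ : ∃ u ∈ N, orderOf u = 2 := by
    have hnt : Nontrivial N := (Subgroup.nontrivial_iff_ne_bot N).2 hN1
    obtain ⟨n, hn⟩ := IsPGroup.iff_card.1 hNp
    have h2 : 2 ∣ Nat.card N := by
      rw [hn]
      apply dvd_pow_self
      rintro rfl
      rw [pow_zero] at hn
      have := Finite.one_lt_card_iff_nontrivial.2 hnt
      omega
    have : Fact (Nat.Prime 2) := ⟨Nat.prime_two⟩
    obtain ⟨⟨u, huM⟩, hu⟩ := exists_prime_orderOf_dvd_card' 2 h2
    rw [← Subgroup.orderOf_coe] at hu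
    exact ⟨u, huM, hu⟩
  have hEall : ∀ t : H, orderOf t = 2 → t ∈ E := by
    intro t ht
    obtain ⟨c, hc⟩ := isConj_iff.1 (hone u t hu ht)
    rw [← hc]
    refine hEn.conj_mem u ⟨huN, ?_⟩ c
    rw [← hu]; exact pow_orderOf_eq_one u
  exact unique_of_normal hamb hone E (fun x hx => hx.2) hEall s t hs ht

theorem odd_card_oddCore (G : Type*) [Group G] [Finite G] : Odd (Nat.card (pPrimeCore 2 G)) :=
  (Nat.coprime_two_right).1 (Lib.HallHigman.pPrimeCore_coprime 2)

/-- In a finite solvable ambivalent group with one class of involutions a Sylow `2`-subgroup has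
at most one involution. -/
theorem unique_of_sylow {G : Type*} [Group G] [Finite G] [Group.IsSolvable G]
    (hamb : ∀ x : G, IsConj x x⁻¹) (hone : ∀ s t : G, orderOf s = 2 → orderOf t = 2 → IsConj s t)
    (S : Sylow 2 G) (s t : G) (hsS : s ∈ S) (htS : t ∈ S)
    (hs : orderOf s = 2) (ht : orderOf t = 2) : s = t := by
  classical
  have hNn : (pPrimeCore 2 G).Normal := Lib.HallHigman.pPrimeCore_normal 2
  have hodd := odd_card_oddCore G
  have hmem : ∀ y : G, y ∈ S → y ∈ pPrimeCore 2 G → y = 1 := by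
    intro y hyS hyN
    obtain ⟨k, hk⟩ := (IsPGroup.iff_orderOf.1 S.2) ⟨y, hyS⟩
    rw [← Subgroup.orderOf_coe] at hk
    change orderOf y = 2 ^ k at hk
    have h1 : orderOf y ∣ Nat.card (pPrimeCore 2 G) := by
      have := orderOf_dvd_natCard (⟨y, hyN⟩ : pPrimeCore 2 G)
      rwa [← Subgroup.orderOf_coe] at this
    have h2 : Odd (orderOf y) := hodd.of_dvd_nat h1
    rw [hk] at h2
    rcases Nat.eq_zero_or_pos k with h0 | h0
    · rw [h0, pow_zero] at hk
      exact orderOf_eq_one_iff.1 hk
    · exfalso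
      rw [← Nat.not_even_iff_odd] at h2
      exact h2 ((Nat.even_pow.2 ⟨even_two, by omega⟩))
  have himg : ∀ y : G, y ∈ S → orderOf y = 2 → orderOf (y : G ⧸ pPrimeCore 2 G) = 2 := by
    intro y hyS hy
    refine orderOf_eq_prime ?_ ?_
    · have : y ^ 2 = 1 := by rw [← hy]; exact pow_orderOf_eq_one y
      exact congrArg (QuotientGroup.mk : G → G ⧸ pPrimeCore 2 G) this
    · intro h
      have := hmem y hyS ((QuotientGroup.eq_one_iff y).1 h)
      rw [this, orderOf_one] at hy
      exact absurd hy (by decide)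
  have h1 := unique_of_core (H := G ⧸ pPrimeCore 2 G)
    (ambivalent_quotient hamb _)
    (one_class_quotient _ hodd hone)
    (Lib.HallHigman.pPrimeCore_quotient_eq_bot 2 _ rfl) s t (himg s hsS hs) (himg t htS ht)
  have h2 : s⁻¹ * t ∈ pPrimeCore 2 G := QuotientGroup.eq.1 h1
  have h3 := hmem _ ((S : Subgroup G).mul_mem ((S : Subgroup G).inv_mem hsS) htS) h2
  exact inv_mul_eq_one.1 h3

/-- In a finite solvable ambivalent group of even order with one class of involutions, a cyclic
Sylow `2`-subgroup has order `2`. -/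
theorem card_eq_two_of_isCyclic {G : Type*} [Group G] [Finite G]
    (hamb : ∀ x : G, IsConj x x⁻¹) (heven : 2 ∣ Nat.card G) (S : Sylow 2 G) (hS : IsCyclic S) :
    Nat.card S = 2 := by
  have hmin : (Nat.card G).minFac = 2 := (Nat.minFac_eq_two_iff _).2 heven
  have hcomp := IsCyclic.isComplement' hmin hS
  set f := MonoidHom.transferSylow S (hS.normalizer_le_centralizer hmin) with hf
  have hidx : f.ker.index = Nat.card S := hcomp.symm.index_eq_card
  have hrange : Nat.card f.range = Nat.card S := by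
    rw [← hidx, index_ker]
  have htop : f.range = ⊤ := Subgroup.eq_top_of_card_eq _ hrange
  have hsq : ∀ s : S, s ^ 2 = 1 := by
    intro s
    have hs : s ∈ f.range := by rw [htop]; trivial
    obtain ⟨x, rfl⟩ := hs
    obtain ⟨c, hc⟩ := isConj_iff.1 (hamb x)
    have h1 := congrArg f hc
    rw [map_mul, map_mul, map_inv, map_inv] at h1
    have hcomm : f c * f x = f x * f c := IsCyclic.commGroup.mul_comm _ _
    rw [hcomm, mul_inv_cancel_right] at h1
    rw [pow_two]
    nth_rewrite 1 [h1]
    simp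
  obtain ⟨g, hg⟩ := hS.exists_generator
  have h1 : orderOf g = Nat.card S := orderOf_eq_card_of_forall_mem_zpowers hg
  have h2 : orderOf g ∣ 2 := orderOf_dvd_of_pow_eq_one (hsq g)
  have : Fact (Nat.Prime 2) := ⟨Nat.prime_two⟩
  have h3 : 2 ∣ Nat.card S := S.dvd_card_of_dvd_card heven
  rw [← h1] at h3 ⊢
  exact Nat.dvd_antisymm h2 h3

/-- A Sylow `2`-subgroup of a finite solvable ambivalent group of even order with one class of
involutions has order `2` or is generalized quaternion. -/
theorem sylow_two {G : Type*} [Group G] [Finite G] [Group.IsSolvable G]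
    (hamb : ∀ x : G, IsConj x x⁻¹) (heven : 2 ∣ Nat.card G)
    (hone : ∀ s t : G, orderOf s = 2 → orderOf t = 2 → IsConj s t) (S : Sylow 2 G) :
    Nat.card S = 2 ∨ ∃ n : ℕ, Nonempty ((S : Subgroup G) ≃* QuaternionGroup (2 ^ (n + 1))) := by
  have : Fact (Nat.Prime 2) := ⟨Nat.prime_two⟩
  have hU : Solvable.UniqueOrderP.UniqueP 2 S := by
    intro x y hx hx2 hy2
    by_cases hy : y = 1
    · subst hy; exact one_mem _
    have hxo : orderOf (x : G) = 2 := by
      rw [Subgroup.orderOf_coe]; exact orderOf_eq_prime hx2 hx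
    have hyo : orderOf (y : G) = 2 := by
      rw [Subgroup.orderOf_coe]; exact orderOf_eq_prime hy2 hy
    have := unique_of_sylow hamb hone S x y x.2 y.2 hxo hyo
    rw [← Subtype.ext this]
    exact mem_zpowers x
  rcases Solvable.UniqueOrderP.cyclic_or_quaternion S.2 hU with h | ⟨-, m, hm, h⟩
  · exact Or.inl (card_eq_two_of_isCyclic hamb heven S h)
  · obtain ⟨n, rfl⟩ := Nat.exists_eq_succ_of_ne_zero hm
    exact Or.inr ⟨n, h⟩

/-- The structure of a finite ambivalent group with a Sylow `2`-subgroup of order `2`. -/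
theorem of_card_eq_two {G : Type*} [Group G] [Finite G]
    (hamb : ∀ x : G, IsConj x x⁻¹) (heven : 2 ∣ Nat.card G) (S : Sylow 2 G)
    (hS : Nat.card S = 2) :
    (S : Subgroup G).IsComplement' (pPrimeCore 2 G) ∧ pPrimeCore 2 G = commutator G ∧
        ∀ t : G, t ∈ S → t ≠ 1 → ∀ x : G, x ∈ pPrimeCore 2 G → t * x * t⁻¹ = x⁻¹ := by
  classical
  have hcyc : IsCyclic S := isCyclic_of_prime_card hS
  have hmin : (Nat.card G).minFac = 2 := (Nat.minFac_eq_two_iff _).2 heven
  have hcomp := IsCyclic.isComplement' hmin hcyc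
  set f := MonoidHom.transferSylow S (hcyc.normalizer_le_centralizer hmin) with hf
  have hKodd : Odd (Nat.card f.ker) := by
    rw [← Nat.not_even_iff_odd, even_iff_two_dvd]
    exact MonoidHom.not_dvd_card_ker_transferSylow S (hcyc.normalizer_le_centralizer hmin)
  have hKidx : f.ker.index = 2 := by rw [hcomp.symm.index_eq_card, hS]
  have hNn : (pPrimeCore 2 G).Normal := Lib.HallHigman.pPrimeCore_normal 2
  have hodd := odd_card_oddCore G
  have hK : f.ker = pPrimeCore 2 G := by
    have hle : f.ker ≤ pPrimeCore 2 G :=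
      Lib.HallHigman.le_pPrimeCore inferInstance ((Nat.coprime_two_right).2 hKodd)
    refine le_antisymm hle ?_
    have h1 : f.ker.relIndex (pPrimeCore 2 G) ∣ 2 :=
      (Subgroup.relIndex_dvd_index_of_normal _ _).trans hKidx.dvd
    have h2 : f.ker.relIndex (pPrimeCore 2 G) ∣ Nat.card (pPrimeCore 2 G) :=
      Subgroup.relIndex_dvd_card _ _
    rcases (Nat.dvd_prime Nat.prime_two).1 h1 with h | h
    · exact Subgroup.relIndex_eq_one.1 h
    · rw [h] at h2
      have := hodd.of_dvd_nat h2
      exact absurd this (by decide)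
  rw [hK] at hcomp hKidx
  have hinv : ∀ t : G, t ∈ S → t ≠ 1 → ∀ x : G, x ∈ pPrimeCore 2 G → t * x * t⁻¹ = x⁻¹ := by
    intro t ht ht1
    have hto : orderOf t = 2 := by
      have h1 : orderOf t ∣ 2 := by
        have := orderOf_dvd_natCard (⟨t, ht⟩ : (S : Subgroup G))
        rw [← Subgroup.orderOf_coe, hS] at this
        exact this
      rcases (Nat.dvd_prime Nat.prime_two).1 h1 with h | h
      · exact absurd (orderOf_eq_one_iff.1 h) ht1
      · exact h
    have htt : t * t = 1 := by rw [← pow_two, ← hto]; exact pow_orderOf_eq_one t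
    have hSt : (S : Subgroup G) = zpowers t := by
      refine (Subgroup.eq_of_le_of_card_ge (zpowers_le.2 ht) ?_).symm
      rw [Nat.card_zpowers, hto]
      exact hS.le
    let φ : MulAut (pPrimeCore 2 G) := MulAut.conjNormal t
    have hφ : ∀ x : pPrimeCore 2 G, ((φ x : pPrimeCore 2 G) : G) = t * x * t⁻¹ := by
      intro x; exact MulAut.conjNormal_apply t x
    have hfpf : MonoidHom.FixedPointFree (φ : pPrimeCore 2 G → pPrimeCore 2 G) := by
      intro x hx
      have h1 : t * (x : G) * t⁻¹ = x := by rw [← hφ, hx]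
      have h2 : (S : Subgroup G) ≤ centralizer ({(x : G)} : Set G) := by
        rw [hSt, zpowers_le, mem_centralizer_singleton_iff]
        exact mul_inv_eq_iff_eq_mul.1 h1
      have h3 : Odd (centralizer ({(x : G)} : Set G)).index := by
        have h4 := Subgroup.index_dvd_of_le h2
        have h5 : ¬ 2 ∣ (S : Subgroup G).index := S.not_dvd_index
        rw [← Nat.not_even_iff_odd, even_iff_two_dvd]
        exact fun h => h5 (h.trans h4)
      have h6 := S4059.sq_eq_one_of_odd (x : G) (hamb x) h3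
      have h7 : orderOf (x : G) ∣ 2 := orderOf_dvd_of_pow_eq_one h6
      have h8 : Odd (orderOf (x : G)) := by
        rw [Subgroup.orderOf_coe]
        exact hodd.of_dvd_nat (orderOf_dvd_natCard x)
      rcases (Nat.dvd_prime Nat.prime_two).1 h7 with h | h
      · exact Subtype.ext (orderOf_eq_one_iff.1 h)
      · rw [h] at h8; exact absurd h8 (by decide)
    have hinvol : Function.Involutive (φ : pPrimeCore 2 G → pPrimeCore 2 G) := by
      intro x
      apply Subtype.ext
      rw [hφ, hφ]
      have h1 : t⁻¹ = t := inv_eq_of_mul_eq_one_left htt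
      calc t * (t * (x : G) * t⁻¹) * t⁻¹ = (t * t) * x * (t⁻¹ * t⁻¹) := by group
        _ = x := by rw [h1, htt]; simp
    intro x hx
    have h1 := congrFun (MonoidHom.FixedPointFree.coe_eq_inv_of_involutive hfpf hinvol) ⟨x, hx⟩
    have h2 := congrArg Subtype.val h1
    rw [hφ] at h2
    exact h2
  refine ⟨hcomp.symm, ?_, hinv⟩
  apply le_antisymm
  · intro x hx
    have h2 : 2 ∣ Nat.card S := by rw [hS]
    have : Fact (Nat.Prime 2) := ⟨Nat.prime_two⟩
    obtain ⟨⟨t, htS⟩, ht⟩ := exists_prime_orderOf_dvd_card' 2 h2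
    rw [← Subgroup.orderOf_coe] at ht
    change orderOf t = 2 at ht
    have ht1 : t ≠ 1 := by
      rintro rfl
      rw [orderOf_one] at ht; exact absurd ht (by decide)
    have h3 := hinv t htS ht1 x hx
    have h4 : (x ^ 2)⁻¹ ∈ commutator G := by
      have : (x ^ 2)⁻¹ = t * x * t⁻¹ * x⁻¹ := by
        rw [h3, pow_two, mul_inv_rev]
      rw [this]
      exact commutator_mem_commutator (mem_top t) (mem_top x)
    have h5 : x ^ 2 ∈ commutator G := by simpa using (commutator G).inv_mem h4
    have h6 : Odd (orderOf x) := by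
      have := orderOf_dvd_natCard (⟨x, hx⟩ : pPrimeCore 2 G)
      rw [← Subgroup.orderOf_coe] at this
      exact hodd.of_dvd_nat this
    obtain ⟨k, hk⟩ := h6
    have h7 : x = (x ^ 2) ^ (k + 1) := by
      rw [← pow_mul]
      have : 2 * (k + 1) = orderOf x + 1 := by omega
      rw [this, pow_add, pow_orderOf_eq_one, pow_one, one_mul]
    rw [h7]
    exact (commutator G).pow_mem h5 _
  · -- the quotient has order `2`, so it is commutative
    have hcard : Nat.card (G ⧸ pPrimeCore 2 G) = 2 := hKidx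
    have hcyc2 : IsCyclic (G ⧸ pPrimeCore 2 G) := by
      have : Fact (Nat.Prime 2) := ⟨Nat.prime_two⟩
      exact isCyclic_of_prime_card hcard
    rw [_root_.commutator, Subgroup.commutator_le]
    intro a _ b _
    rw [← QuotientGroup.eq_one_iff]
    have h1 : (a : G ⧸ pPrimeCore 2 G) * b = b * a := IsCyclic.commGroup.mul_comm _ _
    change (a : G ⧸ pPrimeCore 2 G) * b * (a : G ⧸ pPrimeCore 2 G)⁻¹ * (b : G ⧸ pPrimeCore 2 G)⁻¹ = 1
    rw [h1]; group

end Cfsg.Agent.H508.Ambivalent
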