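import Mathlib
import Cfsg.Prelude.Def_Transfer
import Cfsg.Agent.Transfer.CentralComm
import Cfsg.Agent.Lib.FrattiniPGroup
set_option linter.all false

/-!
# Class two groups: bridge from `Group.nilpotencyClass`, and Frattini subgroups
-/

set_option autoImplicit false

namespace Cfsg.Agent.H508

open Subgroup
open scoped commutatorElement

/-- In a nilpotent group of class at most two all commutators are central. -/
theorem comm_mem_center {P : Type*} [Group P] [Group.IsNilpotent P]
    (hcl : Group.nilpotencyClass P ≤ 2) (a b : P) : ⁅a, b⁆ ∈ center P := by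
  have h1 : Subgroup.lowerCentralSeries (⊤ : Subgroup P) 2 = ⊥ :=
    Subgroup.lowerCentralSeries_eq_bot_iff_nilpotencyClass_le.2 hcl
  apply Cfsg.Agent.Transfer.CentralComm.comm_mem_center_of_eq_bot
  exact h1

/-- In class two and exponent dividing four, commutators square to one. -/
theorem comm_sq_eq_one {P : Type*} [Group P] (hc : ∀ a b : P, ⁅a, b⁆ ∈ center P)
    (h4 : ∀ x : P, x ^ 4 = 1) (a b : P) : ⁅a, b⁆ ^ 2 = 1 := by
  have h := Cfsg.Agent.Transfer.CentralComm.mul_pow_choose hc b a 4
  have h6 : Nat.choose 4 2 = 4 + 2 := by decide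
  rw [h4, h4, h4, h6, pow_add, h4] at h
  simpa using h.symm

/-- In class two and exponent dividing four, squares are central. -/
theorem sq_mem_center {P : Type*} [Group P] (hc : ∀ a b : P, ⁅a, b⁆ ∈ center P)
    (h4 : ∀ x : P, x ^ 4 = 1) (a : P) : a ^ 2 ∈ center P := by
  rw [mem_center_iff]
  intro g
  have h := Cfsg.Agent.Transfer.CentralComm.comm_pow_right hc g a 2
  rw [comm_sq_eq_one hc h4, commutatorElement_eq_one_iff_mul_comm] at h
  exact h

/-- The central elements of order dividing `p`. -/
def omegaCenter (P : Type*) [Group P] (p : ℕ) : Subgroup P where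
  carrier := {x | x ∈ center P ∧ x ^ p = 1}
  one_mem' := ⟨one_mem _, one_pow _⟩
  mul_mem' := by
    rintro a b ⟨ha, ha'⟩ ⟨hb, hb'⟩
    refine ⟨mul_mem ha hb, ?_⟩
    have hc : Commute a b := (mem_center_iff.1 hb a)
    rw [hc.mul_pow, ha', hb', one_mul]
  inv_mem' := by
    rintro a ⟨ha, ha'⟩
    exact ⟨inv_mem ha, by rw [inv_pow, ha', inv_one]⟩

theorem mem_omegaCenter {P : Type*} [Group P] {p : ℕ} {x : P} :
    x ∈ omegaCenter P p ↔ x ∈ center P ∧ x ^ p = 1 := Iff.rfl

theorem omegaCenter_normal (P : Type*) [Group P] (p : ℕ) : (omegaCenter P p).Normal := by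
  constructor
  rintro n ⟨hn, hn'⟩ g
  have : g * n * g⁻¹ = n := by
    rw [mem_center_iff.1 hn g]; group
  rw [this]
  exact ⟨hn, hn'⟩

/-- The Frattini subgroup of a group of class at most two and exponent dividing four consists of central
elements squaring to one. -/
theorem frattini_le_omegaCenter_two {P : Type*} [Group P] [Finite P]
    (hc : ∀ a b : P, ⁅a, b⁆ ∈ center P) (h4 : ∀ x : P, x ^ 4 = 1) : frattini P ≤ omegaCenter P 2 := by
  haveI : Fact (Nat.Prime 2) := ⟨Nat.prime_two⟩
  haveI := omegaCenter_normal P 2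
  apply Cfsg.Agent.Lib.FrattiniPGroup.frattini_le (p := 2)
  · intro x y
    exact ⟨hc x y, comm_sq_eq_one hc h4 x y⟩
  · intro x
    exact ⟨sq_mem_center hc h4 x, by rw [← pow_mul]; exact h4 x⟩

end Cfsg.Agent.H508
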