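import Mathlib
import Cfsg.Agent.H508.Basic
import Cfsg.Agent.Lib.NormalElementary
import Cfsg.Agent.S0014
set_option linter.all false

/-!
# Thompson's generator bound

For `p` odd, a finite `p`-group all of whose elements of order `p` are central is generated by at most `a`
elements, where `p ^ a` bounds the number of elements with `x ^ p = 1`.
-/

set_option autoImplicit false
set_option linter.style.haveILetI false

namespace Cfsg.Agent.H508.ThompsonGen

open Subgroup

variable {p : ℕ} [hp : Fact p.Prime] {C : Type*} [Group C] [Finite C]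

theorem pow_eq_aux (hp2 : p ≠ 2) (hC : IsPGroup p C) (hcen : ∀ x : C, x ^ p = 1 → x ∈ center C) :
    ∀ n : ℕ, ∀ u v : C, Nat.card (closure ({u, v} : Set C)) ≤ n → u ^ p = v ^ p → (u⁻¹ * v) ^ p = 1 := by
  intro n
  induction n with
  | zero =>
    intro u v h
    exact absurd h (not_le.2 Nat.card_pos)
  | succ n ih =>
    intro u v hn huv
    by_cases hc : Commute u v
    · rw [hc.inv_left.mul_pow, inv_pow, huv, inv_mul_cancel]
    · have hlt := Cfsg.Agent.Lib.NormalElementary.card_closure_pair_lt hC hc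
      have h1 : u ^ p = (v * u * v⁻¹) ^ p := by
        rw [conj_pow, huv]
        have : Commute v (v ^ p) := (Commute.refl v).pow_right p
        rw [this.eq]
        group
      have h2 := ih u (v * u * v⁻¹) (by omega) h1
      set c : C := u⁻¹ * (v * u * v⁻¹) with hcdef
      have hcc : c ∈ center C := hcen c h2
      have hcomm : ∀ g : C, Commute c g := fun g => (mem_center_iff.1 hcc g).symm
      have h3 : v * u⁻¹ = u⁻¹ * v * c⁻¹ := by
        have h4 : v * u = u * c * v := by rw [hcdef]; group
        have h5 : u⁻¹ * v = v * u⁻¹ * c := by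
          calc u⁻¹ * v = u⁻¹ * (v * u) * u⁻¹ := by group
            _ = u⁻¹ * (u * c * v) * u⁻¹ := by rw [h4]
            _ = c * (v * u⁻¹) := by group
            _ = v * u⁻¹ * c := (hcomm _).eq
        rw [h5]; group
      have h4 := Cfsg.Agent.Lib.NormalElementary.mul_pow_prime_of_swap (p := p) hp2 h3
        ((hcomm _).inv_left) ((hcomm _).inv_left) (by rw [inv_pow, h2, inv_one])
      rw [h4, inv_pow, huv, inv_mul_cancel]

theorem pow_eq (hp2 : p ≠ 2) (hC : IsPGroup p C) (hcen : ∀ x : C, x ^ p = 1 → x ∈ center C) {u v : C}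
    (huv : u ^ p = v ^ p) : (u⁻¹ * v) ^ p = 1 :=
  pow_eq_aux hp2 hC hcen _ u v le_rfl huv

/-- A finite `p`-group with `|P : Φ(P)| ≤ p ^ a` is generated by at most `a` elements. -/
theorem exists_gen_of_index {P : Type*} [Group P] [Finite P] (hP : IsPGroup p P) {a : ℕ}
    (h : (frattini P).index ≤ p ^ a) : ∃ T : Finset P, T.card ≤ a ∧ closure (T : Set P) = ⊤ := by
  classical
  cases nonempty_fintype P
  obtain ⟨d, hd⟩ := hP.index (frattini P)
  obtain ⟨h1, -⟩ := Cfsg.Agent.S0014.result p d hP hd
  obtain ⟨T, -, hT, hcl⟩ := h1 Finset.univ (by simp)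
  rw [hd] at h
  exact ⟨T, by rw [hT]; exact (Nat.pow_le_pow_iff_right hp.out.one_lt).1 h, hcl⟩

/-- **Thompson.** -/
theorem exists_gen (hp2 : p ≠ 2) (hC : IsPGroup p C) (hcen : ∀ x : C, x ^ p = 1 → x ∈ center C) {a : ℕ}
    (ha : Nat.card {x : C // x ^ p = 1} ≤ p ^ a) :
    ∃ T : Finset C, T.card ≤ a ∧ closure (T : Set C) = ⊤ := by
  classical
  apply exists_gen_of_index hC
  let s : C → C := fun y => if h : ∃ x : C, x ^ p = y then h.choose else 1
  have hs : ∀ x : C, (s (x ^ p)) ^ p = x ^ p := by
    intro x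
    have h : ∃ z : C, z ^ p = x ^ p := ⟨x, rfl⟩
    simp only [s, dif_pos h]
    exact h.choose_spec
  let F : C → {x : C // x ^ p = 1} × ↥(frattini C) := fun x =>
    (⟨(s (x ^ p))⁻¹ * x, pow_eq hp2 hC hcen (hs x)⟩,
      ⟨x ^ p, Cfsg.Agent.Lib.FrattiniPGroup.pow_mem_frattini hC x⟩)
  have hF : Function.Injective F := by
    intro x y hxy
    have h1 : (s (x ^ p))⁻¹ * x = (s (y ^ p))⁻¹ * y := congrArg (fun z => (z.1 : C)) hxy
    have h2 : x ^ p = y ^ p := congrArg (fun z => (z.2 : C)) hxy
    rw [h2] at h1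
    exact mul_left_cancel h1
  have h1 := Nat.card_le_card_of_injective F hF
  rw [Nat.card_prod] at h1
  have h2 : (frattini C).index * Nat.card ↥(frattini C) = Nat.card C := Subgroup.index_mul_card _
  rw [← h2] at h1
  have h3 := Nat.le_of_mul_le_mul_right h1 Nat.card_pos
  exact h3.trans ha

/-- Generating sets of a normal subgroup and of the quotient combine. -/
theorem exists_gen_extension {H : Type*} [Group H] (N : Subgroup H) [N.Normal] (T₁ : Finset (H ⧸ N))
    (T₂ : Finset N) (h1 : closure (T₁ : Set (H ⧸ N)) = ⊤) (h2 : closure (T₂ : Set N) = ⊤) :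
    ∃ T : Finset H, T.card ≤ T₁.card + T₂.card ∧ closure (T : Set H) = ⊤ := by
  classical
  let T : Finset H := T₁.image (Quotient.out : H ⧸ N → H) ∪ T₂.image (Subtype.val : N → H)
  refine ⟨T, (Finset.card_union_le _ _).trans
    (Nat.add_le_add Finset.card_image_le Finset.card_image_le), ?_⟩
  have hN : N ≤ closure (T : Set H) := by
    have h3 : (closure (T₂ : Set N)).map N.subtype ≤ closure (T : Set H) := by
      rw [MonoidHom.map_closure, closure_le]
      rintro _ ⟨x, hx, rfl⟩
      apply Subgroup.subset_closure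
      rw [Finset.coe_union, Finset.coe_image, Finset.coe_image]
      exact Or.inr ⟨x, hx, rfl⟩
    rw [h2] at h3
    intro x hx
    exact h3 ⟨⟨x, hx⟩, trivial, rfl⟩
  have hmap : (closure (T : Set H)).map (QuotientGroup.mk' N) = ⊤ := by
    rw [eq_top_iff, ← h1, closure_le]
    intro y hy
    refine ⟨Quotient.out y, ?_, ?_⟩
    · apply Subgroup.subset_closure
      rw [Finset.coe_union, Finset.coe_image, Finset.coe_image]
      exact Or.inl ⟨y, hy, rfl⟩
    · exact QuotientGroup.out_eq' y
  have h4 := congrArg (Subgroup.comap (QuotientGroup.mk' N)) hmap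
  rw [Subgroup.comap_map_eq, QuotientGroup.ker_mk', Subgroup.comap_top, sup_eq_left.2 hN] at h4
  exact h4

end Cfsg.Agent.H508.ThompsonGen
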