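import Mathlib
import Cfsg.Agent.H508.Ambivalent
set_option linter.all false

set_option autoImplicit false
set_option linter.style.haveILetI false
open Cfsg

/-!
# Groups in which elements of the same order are conjugate
-/

namespace Cfsg.Agent.H508.OrderConj

open Subgroup

/-- An element of a quotient lifts to an element whose order has the same primes. -/
theorem exists_lift {G : Type*} [Group G] [Finite G] (N : Subgroup G) [N.Normal] (x : G ⧸ N) :
    ∃ g : G, (g : G ⧸ N) = x ∧ ∀ p : ℕ, p.Prime → p ∣ orderOf g → p ∣ orderOf x := by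
  classical
  have hex : ∃ n : ℕ, ∃ g : G, (g : G ⧸ N) = x ∧ orderOf g = n := by
    obtain ⟨g, hg⟩ := QuotientGroup.mk_surjective x
    exact ⟨_, g, hg, rfl⟩
  obtain ⟨g, hg, hgn⟩ := Nat.find_spec hex
  refine ⟨g, hg, ?_⟩
  intro p hp hpg
  by_contra hpx
  set n := orderOf g with hn
  have hn0 : n ≠ 0 := (orderOf_pos g).ne'
  -- `n = p ^ a * n'`
  obtain ⟨a, n', hpn', hnn⟩ := Nat.exists_eq_pow_mul_and_not_dvd hn0 p hp.ne_one
  have ha : a ≠ 0 := by
    rintro rfl
    rw [pow_zero, one_mul] at hnn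
    exact hpn' (hnn ▸ hpg)
  have hm : orderOf x ∣ n := by
    rw [← hg]; exact orderOf_map_dvd (QuotientGroup.mk' N) g
  have hcop : Nat.Coprime (p ^ a) n' := Nat.Coprime.pow_left _ ((Nat.Prime.coprime_iff_not_dvd hp).2 hpn')
  have hm' : orderOf x ∣ n' := by
    refine Nat.Coprime.dvd_of_dvd_mul_left ?_ (hnn ▸ hm)
    exact ((Nat.Prime.coprime_iff_not_dvd hp).2 hpx).symm.pow_right _
  obtain ⟨k, hk0, hk1⟩ := Nat.chineseRemainder hcop 0 1
  have h1 : ((g ^ k : G) : G ⧸ N) = x := by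
    have h2 : ((g ^ k : G) : G ⧸ N) = x ^ k := by rw [← hg]; rfl
    rw [h2]
    have h3 : k ≡ 1 [MOD orderOf x] := hk1.of_dvd hm'
    have := (pow_eq_pow_iff_modEq (x := x)).2 h3
    rw [this, pow_one]
  have h2 : (g ^ k) ^ n' = 1 := by
    obtain ⟨c, hc⟩ := (Nat.modEq_zero_iff_dvd).1 hk0
    rw [← pow_mul, hc, mul_right_comm, ← hnn, hn, pow_mul, pow_orderOf_eq_one, one_pow]
  have h3 : orderOf (g ^ k) ∣ n' := orderOf_dvd_of_pow_eq_one h2
  have hn'0 : 0 < n' := Nat.pos_of_ne_zero (by rintro rfl; simp at hpn')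
  have h4 : orderOf (g ^ k) < Nat.find hex := by
    rw [← hgn]
    refine lt_of_le_of_lt (Nat.le_of_dvd hn'0 h3) ?_
    rw [hnn]
    exact lt_mul_of_one_lt_left hn'0 (Nat.one_lt_pow ha hp.one_lt)
  exact Nat.find_min hex h4 ⟨_, h1, rfl⟩

/-- The property "elements of the same order are conjugate" passes to quotients. -/
theorem quotient {G : Type*} [Group G] [Finite G]
    (h : ∀ x y : G, orderOf x = orderOf y → IsConj x y) (N : Subgroup G) [N.Normal]
    (x y : G ⧸ N) (hxy : orderOf x = orderOf y) : IsConj x y := by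
  obtain ⟨g, rfl, hg⟩ := exists_lift N x
  obtain ⟨k, rfl, hk⟩ := exists_lift N y
  set d := Nat.gcd (orderOf g) (orderOf k) with hd
  have hgp : 0 < orderOf g := orderOf_pos g
  have hkp : 0 < orderOf k := orderOf_pos k
  have hdp : 0 < d := Nat.gcd_pos_of_pos_left _ hgp
  obtain ⟨a, ha⟩ : d ∣ orderOf g := Nat.gcd_dvd_left _ _
  obtain ⟨b, hb⟩ : d ∣ orderOf k := Nat.gcd_dvd_right _ _
  have ha0 : 0 < a := Nat.pos_of_ne_zero (by rintro rfl; rw [mul_zero] at ha; omega)
  have hb0 : 0 < b := Nat.pos_of_ne_zero (by rintro rfl; rw [mul_zero] at hb; omega)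
  have hab : Nat.Coprime a b := by
    have h1 : d * Nat.gcd a b = d * 1 := by
      rw [← Nat.gcd_mul_left, ← ha, ← hb, mul_one]
    exact Nat.eq_of_mul_eq_mul_left hdp h1
  have hoa : orderOf (g ^ a) = d := by
    rw [orderOf_pow_of_dvd ha0.ne' ⟨d, by rw [ha, mul_comm]⟩, ha, Nat.mul_div_cancel _ ha0]
  have hob : orderOf (k ^ b) = d := by
    rw [orderOf_pow_of_dvd hb0.ne' ⟨d, by rw [hb, mul_comm]⟩, hb, Nat.mul_div_cancel _ hb0]
  have hc := Ambivalent.isConj_quotient N (h (g ^ a) (k ^ b) (by rw [hoa, hob]))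
  have ho : orderOf ((g : G ⧸ N) ^ a) = orderOf ((k : G ⧸ N) ^ b) := by
    obtain ⟨c, hc⟩ := isConj_iff.1 hc
    have h1 : (c : G ⧸ N) * (g : G ⧸ N) ^ a * (c : G ⧸ N)⁻¹ = (k : G ⧸ N) ^ b := hc
    rw [← h1]
    exact ((MulAut.conj (c : G ⧸ N)).orderOf_eq _).symm
  rw [orderOf_pow, orderOf_pow, ← hxy] at ho
  set m := orderOf (g : G ⧸ N) with hm
  have hmp : 0 < m := orderOf_pos _
  have h1 : Nat.gcd m a = Nat.gcd m b := by
    have e1 := Nat.div_mul_cancel (Nat.gcd_dvd_left m a)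
    have e2 := Nat.div_mul_cancel (Nat.gcd_dvd_left m b)
    have h3 : 0 < m / Nat.gcd m a := Nat.div_pos (Nat.gcd_le_left _ hmp) (Nat.gcd_pos_of_pos_left _ hmp)
    rw [← ho] at e2
    exact Nat.eq_of_mul_eq_mul_left h3 (e1.trans e2.symm)
  have h2 : Nat.gcd m a = 1 := by
    have h3 : Nat.gcd m a ∣ a := Nat.gcd_dvd_right _ _
    have h4 : Nat.gcd m a ∣ b := by rw [h1]; exact Nat.gcd_dvd_right _ _
    exact Nat.eq_one_of_dvd_coprimes hab h3 h4
  have h3 : a = 1 := by
    by_contra h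
    obtain ⟨p, hp, hpa⟩ := Nat.exists_prime_and_dvd h
    have h4 : p ∣ m := hg p hp (by rw [ha]; exact hpa.mul_left d)
    have h5 : p ∣ Nat.gcd m a := Nat.dvd_gcd h4 hpa
    rw [h2] at h5
    exact hp.one_lt.ne' (Nat.dvd_one.1 h5)
  have h4 : b = 1 := by
    by_contra h
    obtain ⟨p, hp, hpa⟩ := Nat.exists_prime_and_dvd h
    have h4 : p ∣ m := by
      rw [hxy]
      exact hk p hp (by rw [hb]; exact hpa.mul_left d)
    have h5 : p ∣ Nat.gcd m b := Nat.dvd_gcd h4 hpa
    rw [← h1, h2] at h5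
    exact hp.one_lt.ne' (Nat.dvd_one.1 h5)
  apply Ambivalent.isConj_quotient
  apply h
  rw [ha, hb, h3, h4]

theorem ambivalent {G : Type*} [Group G] (h : ∀ x y : G, orderOf x = orderOf y → IsConj x y)
    (x : G) : IsConj x x⁻¹ := h _ _ (orderOf_inv x).symm

theorem one_class {G : Type*} [Group G] (h : ∀ x y : G, orderOf x = orderOf y → IsConj x y)
    (s t : G) (hs : orderOf s = 2) (ht : orderOf t = 2) : IsConj s t := h _ _ (hs.trans ht.symm)

/-- If `f : QuaternionGroup (2 ^ (n + 1)) → G` is an injective homomorphism, `z` its central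
involution and `z` is central in `G`, then the quotient by `⟨z⟩` has two different commuting
involutions in the image. -/
theorem false_of_quaternion {G : Type*} [Group G] [Finite G] [Group.IsSolvable G]
    (h : ∀ x y : G, orderOf x = orderOf y → IsConj x y) (S : Sylow 2 G) (n : ℕ)
    (e : (S : Subgroup G) ≃* QuaternionGroup (2 ^ (n + 1))) : False := by
  classical
  have h2p : Fact (Nat.Prime 2) := ⟨Nat.prime_two⟩
  -- pass to `H = G / O(G)`
  set O := pPrimeCore 2 G with hO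
  have hOn : O.Normal := Lib.HallHigman.pPrimeCore_normal 2
  have hodd : Odd (Nat.card O) := Ambivalent.odd_card_oddCore G
  -- it has only one involution
  have huniq := Ambivalent.unique_of_core (H := G ⧸ O)
    (ambivalent (quotient h O)) (one_class (quotient h O))
    (Lib.HallHigman.pPrimeCore_quotient_eq_bot 2 _ rfl)
  have hmem : ∀ y : G, y ∈ S → y ∈ O → y = 1 := by
    intro y hyS hyN
    obtain ⟨k, hk⟩ := (IsPGroup.iff_orderOf.1 S.2) ⟨y, hyS⟩
    rw [← Subgroup.orderOf_coe] at hk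
    change orderOf y = 2 ^ k at hk
    have h1 : orderOf y ∣ Nat.card O := by
      have := orderOf_dvd_natCard (⟨y, hyN⟩ : O)
      rwa [← Subgroup.orderOf_coe] at this
    have h2 : Odd (orderOf y) := hodd.of_dvd_nat h1
    rw [hk] at h2
    rcases Nat.eq_zero_or_pos k with h0 | h0
    · rw [h0, pow_zero] at hk
      exact orderOf_eq_one_iff.1 hk
    · exfalso
      rw [← Nat.not_even_iff_odd] at h2
      exact h2 ((Nat.even_pow.2 ⟨even_two, by omega⟩))
  -- the composite `φ : Q → S → H`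
  let φ : QuaternionGroup (2 ^ (n + 1)) →* G ⧸ O :=
    ((QuotientGroup.mk' O).comp (S : Subgroup G).subtype).comp e.symm.toMonoidHom
  have hφinj : Function.Injective φ := by
    rw [injective_iff_map_eq_one]
    intro q hq
    have h1 : ((e.symm q : S) : G) ∈ O := (QuotientGroup.eq_one_iff _).1 hq
    have h2 := hmem _ (e.symm q).2 h1
    have h3 : e.symm q = 1 := Subtype.ext h2
    exact (MulEquiv.map_eq_one_iff e.symm).1 h3
  have hφS : ∀ q, φ q ∈ (S.mapSurjective (QuotientGroup.mk'_surjective O) : Sylow 2 (G ⧸ O)) := by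
    intro q
    change φ q ∈ ((S.mapSurjective (QuotientGroup.mk'_surjective O) : Sylow 2 (G ⧸ O)) : Subgroup (G ⧸ O))
    rw [Sylow.coe_mapSurjective]
    exact ⟨_, (e.symm q).2, rfl⟩
  -- the central involution
  set q0 : QuaternionGroup (2 ^ (n + 1)) := QuaternionGroup.xa 0 with hq0
  set q1 : QuaternionGroup (2 ^ (n + 1)) := QuaternionGroup.xa 1 with hq1
  have hne : NeZero (2 ^ (n + 1)) := ⟨by positivity⟩
  have ho0 : orderOf (φ q0) = 4 := by
    rw [orderOf_injective φ hφinj, hq0, QuaternionGroup.orderOf_xa]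
  have ho1 : orderOf (φ q1) = 4 := by
    rw [orderOf_injective φ hφinj, hq1, QuaternionGroup.orderOf_xa]
  set z := (φ q0) ^ 2 with hz
  have hzo : orderOf z = 2 := by
    rw [hz, orderOf_pow, ho0]; rfl
  have hz1 : (φ q1) ^ 2 = z := by
    apply huniq _ _ ?_ hzo
    rw [orderOf_pow, ho1]; rfl
  have hzc : ∀ g : G ⧸ O, g * z * g⁻¹ = z := by
    intro g
    apply huniq _ _ ?_ hzo
    rw [← hzo]
    exact (MulAut.conj g).orderOf_eq z
  set Z := zpowers z with hZ
  have hZn : Z.Normal := by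
    refine ⟨fun m hm g => ?_⟩
    obtain ⟨k, rfl⟩ := mem_zpowers_iff.1 hm
    rw [← conj_zpow, hzc]
    exact zpow_mem (mem_zpowers z) k
  -- the quotient `K = H / Z`
  have hK := quotient (quotient h O) Z
  set S1 : Sylow 2 (G ⧸ O) := S.mapSurjective (QuotientGroup.mk'_surjective O) with hS1
  set S2 : Sylow 2 ((G ⧸ O) ⧸ Z) := S1.mapSurjective (QuotientGroup.mk'_surjective Z) with hS2
  have hZsq : ∀ w ∈ Z, w ^ 2 = 1 := by
    intro w hw
    have h1 : orderOf w ∣ Nat.card Z := by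
      have := orderOf_dvd_natCard (⟨w, hw⟩ : Z)
      rwa [← Subgroup.orderOf_coe] at this
    rw [hZ, Nat.card_zpowers, hzo] at h1
    exact orderOf_dvd_iff_pow_eq_one.1 h1
  have hinv : ∀ q, orderOf (φ q) = 4 → (φ q) ^ 2 = z →
      orderOf (((φ q : G ⧸ O)) : (G ⧸ O) ⧸ Z) = 2 := by
    intro q hq hqz
    refine orderOf_eq_prime ?_ ?_
    · change (((φ q) ^ 2 : G ⧸ O) : (G ⧸ O) ⧸ Z) = 1
      rw [hqz]
      exact (QuotientGroup.eq_one_iff z).2 (mem_zpowers z)
    · intro h1
      have h2 := hZsq _ ((QuotientGroup.eq_one_iff (φ q)).1 h1)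
      have h3 := orderOf_dvd_of_pow_eq_one h2
      rw [hq] at h3
      exact absurd h3 (by decide)
  have hS2m : ∀ q, (((φ q : G ⧸ O)) : (G ⧸ O) ⧸ Z) ∈ S2 := by
    intro q
    change (((φ q : G ⧸ O)) : (G ⧸ O) ⧸ Z) ∈ (S2 : Subgroup ((G ⧸ O) ⧸ Z))
    rw [hS2, Sylow.coe_mapSurjective]
    exact ⟨_, hφS q, rfl⟩
  have heq := Ambivalent.unique_of_sylow (ambivalent hK) (one_class hK) S2 _ _
    (hS2m q0) (hS2m q1) (hinv q0 ho0 rfl) (hinv q1 ho1 hz1)
  have h5 : (φ q0)⁻¹ * φ q1 ∈ Z := QuotientGroup.eq.1 heq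
  have h6 := hZsq _ h5
  rw [← map_inv, ← map_mul, ← map_pow] at h6
  have h7 : (q0⁻¹ * q1) ^ 2 = 1 := hφinj (by rw [h6, map_one])
  have h8 : q0⁻¹ * q1 = QuaternionGroup.a 1 := by
    rw [inv_mul_eq_iff_eq_mul, hq0, hq1, QuaternionGroup.xa_mul_a, zero_add]
  rw [h8] at h7
  have h9 := orderOf_dvd_of_pow_eq_one h7
  rw [QuaternionGroup.orderOf_a_one] at h9
  have h10 := Nat.le_of_dvd (by norm_num) h9
  have h11 : 2 ≤ 2 ^ (n + 1) := by
    calc 2 = 2 ^ 1 := rfl
      _ ≤ 2 ^ (n + 1) := Nat.pow_le_pow_right (by norm_num) (by omega)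
  omega

/-- A finite group of order `2 |K|`, where the odd order normal subgroup `K` is inverted by the
elements outside and where elements of the same order are conjugate. -/
theorem of_inverts {G : Type*} [Group G] [Finite G]
    (h : ∀ x y : G, orderOf x = orderOf y → IsConj x y) (S K : Subgroup G) [K.Normal]
    (hS : Nat.card S = 2) (hK : Odd (Nat.card K)) (hc : S.IsComplement' K)
    (hinv : ∀ t : G, t ∈ S → t ≠ 1 → ∀ x : G, x ∈ K → t * x * t⁻¹ = x⁻¹) :
    Nat.card G = 2 ∨ Nonempty (G ≃* Equiv.Perm (Fin 3)) := by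
  classical
  have hcard : Nat.card G = 2 * Nat.card K := by rw [← hc.card_mul_card, hS]
  obtain ⟨t, htS, ht⟩ : ∃ t ∈ S, orderOf t = 2 := by
    have h2 : 2 ∣ Nat.card S := by rw [hS]
    have : Fact (Nat.Prime 2) := ⟨Nat.prime_two⟩
    obtain ⟨⟨t, htS⟩, ht⟩ := exists_prime_orderOf_dvd_card' 2 h2
    rw [← Subgroup.orderOf_coe] at ht
    exact ⟨t, htS, ht⟩
  have ht1 : t ≠ 1 := by
    rintro rfl
    rw [orderOf_one] at ht; exact absurd ht (by decide)
  have hcomm : ∀ x ∈ K, ∀ y ∈ K, x * y = y * x := by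
    intro x hx y hy
    have h1 := hinv t htS ht1 (x * y) (K.mul_mem hx hy)
    have h2 := hinv t htS ht1 x hx
    have h3 := hinv t htS ht1 y hy
    have h4 : t * (x * y) * t⁻¹ = (t * x * t⁻¹) * (t * y * t⁻¹) := by group
    rw [h4, h2, h3, mul_inv_rev] at h1
    have h5 := congrArg (·⁻¹) h1
    simpa using h5.symm
  have hor : ∀ x ∈ K, ∀ y ∈ K, orderOf x = orderOf y → y = x ∨ y = x⁻¹ := by
    intro x hx y hy hxy
    obtain ⟨g, hg⟩ := isConj_iff.1 (h x y hxy)
    obtain ⟨⟨⟨s, hs⟩, ⟨k, hk⟩⟩, hsk⟩ := (hc.2 g)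
    change s * k = g at hsk
    have h1 : k * x * k⁻¹ = x := by rw [hcomm k hk x hx, mul_inv_cancel_right]
    have h2 : g * x * g⁻¹ = s * x * s⁻¹ := by
      rw [← hsk]
      calc s * k * x * (s * k)⁻¹ = s * (k * x * k⁻¹) * s⁻¹ := by group
        _ = _ := by rw [h1]
    rw [← hg, h2]
    by_cases hs1 : s = 1
    · left; rw [hs1]; simp
    · right; exact hinv s hs hs1 x hx
  have hcube : ∀ x ∈ K, x ^ 3 = 1 := by
    intro x hx
    have hodd : Odd (orderOf x) := by
      have := orderOf_dvd_natCard (⟨x, hx⟩ : K)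
      rw [← Subgroup.orderOf_coe] at this
      exact hK.of_dvd_nat this
    have h1 : orderOf (x ^ 2) = orderOf x :=
      Nat.Coprime.orderOf_pow ((Nat.coprime_two_right).2 hodd)
    rcases hor x hx (x ^ 2) (K.pow_mem hx 2) h1.symm with h2 | h2
    · have : x = 1 := by
        rw [pow_two] at h2
        exact mul_eq_left.1 h2
      rw [this, one_pow]
    · rw [pow_succ, h2]; simp
  by_cases hKb : K = ⊥
  · left
    rw [hcard, hKb]; simp
  right
  obtain ⟨⟨x, hxK⟩, hx1'⟩ := (Subgroup.ne_bot_iff_exists_ne_one).1 hKb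
  have hx1 : x ≠ 1 := fun hx => hx1' (Subtype.ext hx)
  have h3p : Fact (Nat.Prime 3) := ⟨Nat.prime_three⟩
  have hxo : orderOf x = 3 := orderOf_eq_prime (hcube x hxK) hx1
  have hKx : K = zpowers x := by
    refine le_antisymm ?_ (zpowers_le.2 hxK)
    intro y hy
    by_cases hy1 : y = 1
    · subst hy1; exact one_mem _
    · have hyo : orderOf y = 3 := orderOf_eq_prime (hcube y hy) hy1
      rcases hor x hxK y hy (hxo.trans hyo.symm) with h4 | h4
      · rw [h4]; exact mem_zpowers x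
      · rw [h4]; exact inv_mem (mem_zpowers x)
  have hK3 : Nat.card K = 3 := by rw [hKx, Nat.card_zpowers, hxo]
  have hG6 : Nat.card G = 6 := by rw [hcard, hK3]
  have hidx : Nat.card (G ⧸ S) = 3 := by
    have h4 := S.index_mul_card
    rw [hS, hG6] at h4
    have : S.index = 3 := by omega
    exact this
  have hker : (MulAction.toPermHom G (G ⧸ S)).ker = ⊥ := by
    rw [← Subgroup.normalCore_eq_ker]
    by_contra hne
    have h4 : S.normalCore ≤ S := S.normalCore_le
    have h5 : Nat.card S.normalCore ∣ 2 := by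
      rw [← hS]; exact Subgroup.card_dvd_of_le h4
    have h6 : S.normalCore = S := by
      rcases (Nat.dvd_prime Nat.prime_two).1 h5 with h | h
      · exact absurd (Subgroup.card_eq_one.1 h) hne
      · exact Subgroup.eq_of_le_of_card_ge h4 (by rw [hS, h])
    have h7 : S.Normal := by rw [← h6]; infer_instance
    have h8 : x * t * x⁻¹ * t⁻¹ ∈ S := S.mul_mem (h7.conj_mem t htS x) (S.inv_mem htS)
    have h9 : x * t * x⁻¹ * t⁻¹ ∈ K := by
      have : x * t * x⁻¹ * t⁻¹ = x * (t * x⁻¹ * t⁻¹) := by group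
      rw [this]
      exact K.mul_mem hxK ((inferInstance : K.Normal).conj_mem _ (K.inv_mem hxK) t)
    have h10 : x * t * x⁻¹ * t⁻¹ = 1 := by
      have := hc.disjoint.le_bot ⟨h8, h9⟩
      exact this
    have h11 : t * x⁻¹ * t⁻¹ = x := by
      have := hinv t htS ht1 x⁻¹ (K.inv_mem hxK)
      rwa [inv_inv] at this
    have h12 : x ^ 2 = 1 := by
      rw [pow_two, ← h10]
      nth_rewrite 2 [← h11]
      group
    have h13 := orderOf_dvd_of_pow_eq_one h12
    rw [hxo] at h13
    exact absurd h13 (by decide)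
  have hinj : Function.Injective (MulAction.toPermHom G (G ⧸ S)) :=
    (MonoidHom.ker_eq_bot_iff _).1 hker
  have e : (G ⧸ S) ≃ Fin 3 := Finite.equivFinOfCardEq hidx
  have hP : Nat.card (Equiv.Perm (G ⧸ S)) = 6 := by
    rw [Nat.card_congr (Equiv.permCongr e), Nat.card_eq_fintype_card, Fintype.card_perm,
      Fintype.card_fin]
    rfl
  have hbij : Function.Bijective (MulAction.toPermHom G (G ⧸ S)) := by
    rw [Nat.bijective_iff_injective_and_card]
    exact ⟨hinj, by rw [hG6, hP]⟩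
  exact ⟨(MulEquiv.ofBijective _ hbij).trans e.permCongrHom⟩

/-- **Fitzpatrick, Feit-Seitz, solvable case.** -/
theorem solvable {G : Type*} [Group G] [Finite G] [Group.IsSolvable G]
    (h : ∀ x y : G, orderOf x = orderOf y → IsConj x y) :
    Nat.card G = 1 ∨ Nat.card G = 2 ∨ Nonempty (G ≃* Equiv.Perm (Fin 3)) := by
  classical
  have hamb := ambivalent h
  by_cases heven : 2 ∣ Nat.card G
  · right
    let S : Sylow 2 G := default
    have hS : Nat.card S = 2 := by
      rcases Ambivalent.sylow_two hamb heven (one_class h) S with hS | ⟨n, ⟨e⟩⟩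
      · exact hS
      · exact (false_of_quaternion h S n e).elim
    obtain ⟨h1, -, h3⟩ := Ambivalent.of_card_eq_two hamb heven S hS
    have hNn : (pPrimeCore 2 G).Normal := Lib.HallHigman.pPrimeCore_normal 2
    exact of_inverts h (S : Subgroup G) (pPrimeCore 2 G) hS (Ambivalent.odd_card_oddCore G) h1 h3
  · left
    have hodd : Odd (Nat.card G) := by
      rw [← Nat.not_even_iff_odd, even_iff_two_dvd]; exact heven
    have := Ambivalent.subsingleton_of_odd hamb hodd
    exact Nat.card_unique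

end Cfsg.Agent.H508.OrderConj
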